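import Groth.Agent.Lib.NormRed18.Basic
import Groth.Agent.Lib.VarDim.Alg
import Groth.Agent.S12124
import Mathlib.AlgebraicGeometry.AffineScheme
import Mathlib.AlgebraicGeometry.StructureSheaf

/-!
# Hartogs for integral closures of reduced Noetherian local rings

If every maximal ideal of the integral closure has height at least two, sections over the punctured
spectrum are integral.
-/

set_option autoImplicit false
set_option linter.style.haveILetI false
universe u

open IsLocalRing

namespace Groth.Agent.PunctIC6

theorem isIntegral_frac_of_pow_mul {D : Type u} [CommRing D] [IsDomain D] [IsNoetherianRing D] [IsLocalRing D]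
    (hn : ∀ (n : Ideal (integralClosure D (FractionRing D))) [n.IsMaximal], 2 ≤ n.height)
    (z : FractionRing D)
    (hz : ∀ s ∈ maximalIdeal D, ∃ N : ℕ, IsIntegral D (algebraMap D (FractionRing D) (s ^ N) * z)) :
    IsIntegral D z := by
  obtain ⟨C, hC, -, hmem, -⟩ := Groth.Agent.S12124.result (A := D)
  refine (hmem z).2 fun p hp hp1 => ?_
  haveI := hC
  haveI : Algebra.IsIntegral D C := Algebra.IsIntegral.of_finite D C
  by_cases hall : ∀ s ∈ maximalIdeal D, algebraMap D C s ∈ p
  · exfalso
    haveI : p.IsMaximal := Ideal.isMaximal_of_isIntegral_of_isMaximal_comap (R := D) p (by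
      rw [show p.comap (algebraMap D C) = maximalIdeal D from
        ((IsLocalRing.maximalIdeal.isMaximal D).eq_of_le (Ideal.IsPrime.comap _).ne_top hall).symm]
      infer_instance)
    let D' := integralClosure D (FractionRing D)
    have hCle : C ≤ D' := fun x hx => (Algebra.IsIntegral.isIntegral (R := D) (⟨x, hx⟩ : C)).map C.val
    letI := (Subalgebra.inclusion hCle).toRingHom.toAlgebra
    haveI : IsScalarTower D C D' := IsScalarTower.of_algebraMap_eq fun _ => rfl
    haveI : Algebra.IsIntegral C D' := Algebra.IsIntegral.tower_top D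
    haveI : FaithfulSMul C D' :=
      (faithfulSMul_iff_algebraMap_injective C D').2 (Subalgebra.inclusion_injective hCle)
    obtain ⟨R, hR⟩ := Algebra.IsIntegral.comap_surjective C D' ⟨p, hp⟩
    haveI : R.asIdeal.IsMaximal := Ideal.isMaximal_of_isIntegral_of_isMaximal_comap (R := C) R.asIdeal (by
      rw [show R.asIdeal.comap (algebraMap C D') = p from congrArg PrimeSpectrum.asIdeal hR]; infer_instance)
    have h2 := hn R.asIdeal
    have h : Order.height R ≤ Order.height (⟨p, hp⟩ : PrimeSpectrum C) := by
      rw [← hR]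
      exact Order.height_le_height_apply_of_strictMono _ VarDim.strictMono_comap_of_isIntegral R
    rw [PrimeSpectrum.height_eq_orderHeight R] at h2
    have hp1' : Order.height (⟨p, hp⟩ : PrimeSpectrum C) = 1 :=
      (PrimeSpectrum.height_eq_orderHeight ⟨p, hp⟩).symm.trans hp1
    have h3 : (2 : ℕ∞) ≤ 1 := h2.trans (h.trans hp1'.le)
    exact absurd h3 (by norm_num)
  · push Not at hall
    obtain ⟨s, hs, hsp⟩ := hall
    obtain ⟨N, hN⟩ := hz s hs
    exact ⟨algebraMap D C (s ^ N), fun h => hsp (hp.mem_of_pow_mem N (by rwa [← map_pow])),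
      IsIntegral.tower_top (A := C) hN⟩

theorem isIntegral_of_pow_mul {D K : Type u} [CommRing D] [IsDomain D] [IsNoetherianRing D] [IsLocalRing D]
    [Field K] [Algebra D K] [IsFractionRing D K]
    (hn : ∀ (n : Ideal (integralClosure D K)) [n.IsMaximal], 2 ≤ n.height) (z : K)
    (hz : ∀ s ∈ maximalIdeal D, ∃ N : ℕ, IsIntegral D (algebraMap D K (s ^ N) * z)) : IsIntegral D z := by
  let e : FractionRing D ≃ₐ[D] K := IsLocalization.algEquiv (nonZeroDivisors D) _ _
  let E : integralClosure D (FractionRing D) ≃+* integralClosure D K := (e.mapIntegralClosure).toRingEquiv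
  have h := isIntegral_frac_of_pow_mul (D := D) (fun n _ => ?_) (e.symm z) fun s hs => ?_
  · simpa using h.map e
  · haveI : (n.map E).IsMaximal := Ideal.map_isMaximal_of_equiv E
    have := hn (n.map E)
    rwa [RingEquiv.height_map E n] at this
  · obtain ⟨N, hN⟩ := hz s hs
    refine ⟨N, ?_⟩
    have h := hN.map e.symm
    rwa [map_mul, AlgEquiv.commutes] at h

variable (A : Type u) [CommRing A] [IsNoetherianRing A] [IsReduced A]

/-- Along a projection to a factor, maximal ideals keep height at least two. -/
theorem two_le_height_factor (P : MaximalSpectrum (FractionRing A))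
    (h2 : ∀ (m : Ideal (integralClosure A (FractionRing A))) [m.IsMaximal], 2 ≤ m.height)
    (C : Type u) [CommRing C] (π : integralClosure A (FractionRing A) →+* C) (hπ : Function.Surjective π)
    (hker : ∀ x, π x = 0 → Ideal.Quotient.mk P.asIdeal (x : FractionRing A) = 0)
    (hone : ∀ x : integralClosure A (FractionRing A), Ideal.Quotient.mk P.asIdeal (x : FractionRing A) = 0 → π x = 0)
    (n : Ideal C) [hnmax : n.IsMaximal] : 2 ≤ n.height := by
  haveI : (n.comap π).IsMaximal := Ideal.comap_isMaximal_of_surjective _ hπ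
  obtain ⟨e, hee, heP, heQ⟩ := NormRed18.exists_idem A P
  have hei : IsIntegral A e := ⟨Polynomial.X ^ 2 - Polynomial.X,
    Polynomial.monic_X_pow_sub (Polynomial.degree_X_le.trans_lt (by decide)), by simp [pow_two, hee]⟩
  let E : integralClosure A (FractionRing A) := ⟨e, hei⟩
  have hE : E ∉ n.comap π := fun h => by
    have h1 : π (E - 1) = 0 := hone _ (Ideal.Quotient.eq_zero_iff_mem.2 heP)
    rw [map_sub, map_one, sub_eq_zero] at h1
    exact hnmax.ne_top ((Ideal.eq_top_iff_one _).2 (h1 ▸ h))
  let S : Set (PrimeSpectrum (integralClosure A (FractionRing A))) := {q | q.asIdeal ≤ n.comap π}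
  have hS : ∀ q : PrimeSpectrum (integralClosure A (FractionRing A)), q.asIdeal ≤ n.comap π →
      RingHom.ker π ≤ q.asIdeal := fun q hq x hx => by
    have h0 : x * E = 0 := Subtype.ext (NormRed18.mul_idem_eq_zero A P heQ (hker x hx))
    exact (q.2.mem_or_mem (h0 ▸ q.asIdeal.zero_mem)).resolve_right fun h => hE (hq h)
  let M : PrimeSpectrum (integralClosure A (FractionRing A)) := ⟨n.comap π, inferInstance⟩
  have hm : 2 ≤ Order.height M := by
    have := h2 (n.comap π)
    rwa [show n.comap π = M.asIdeal from rfl, PrimeSpectrum.height_eq_orderHeight M] at this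
  obtain ⟨l, hlast, hlen⟩ := Order.exists_series_of_le_height M (n := 2) hm
  have hlle : ∀ i, (l.toFun i).asIdeal ≤ n.comap π := fun i => by
    have : l.toFun i ≤ l.last := LTSeries.monotone l (Fin.le_last i)
    rw [hlast] at this
    exact this
  have hp : ∀ i, ((l.toFun i).asIdeal.map π).IsPrime := fun i =>
    Ideal.map_isPrime_of_surjective hπ (hS _ (hlle i))
  have hcm : ∀ i, ((l.toFun i).asIdeal.map π).comap π = (l.toFun i).asIdeal := fun i => by
    rw [Ideal.comap_map_of_surjective' _ hπ, sup_eq_left.2 (hS _ (hlle i))]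
  let l' : LTSeries (PrimeSpectrum C) := LTSeries.mk l.length (fun i => ⟨_, hp i⟩) fun i j hij => by
    refine lt_of_le_of_ne (Ideal.map_mono (l.strictMono hij).le : (l.toFun i).asIdeal.map π ≤ _) fun h => ?_
    have h' := congrArg (fun q : PrimeSpectrum C => q.asIdeal.comap π) h
    simp only [hcm] at h'
    exact (l.strictMono hij).ne (PrimeSpectrum.ext h')
  have hl' : l'.last ≤ ⟨n, hnmax.isPrime⟩ := by
    show (l.toFun (Fin.last _)).asIdeal.map π ≤ n
    exact Ideal.map_le_iff_le_comap.2 (hlle _)
  rw [show n = (⟨n, hnmax.isPrime⟩ : PrimeSpectrum C).asIdeal from rfl, PrimeSpectrum.height_eq_orderHeight]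
  calc (2 : ℕ∞) = (l'.length : ℕ∞) := by
        show _ = ((l.length : ℕ) : ℕ∞); rw [hlen]; rfl
    _ ≤ Order.height l'.last := Order.length_le_height_last
    _ ≤ _ := Order.height_mono hl'

variable [IsLocalRing A]

theorem isIntegral_of_pow_mul_reduced
    (h2 : ∀ (m : Ideal (integralClosure A (FractionRing A))) [m.IsMaximal], 2 ≤ m.height) (z : FractionRing A)
    (hz : ∀ s ∈ maximalIdeal A, ∃ N : ℕ, IsIntegral A (algebraMap A (FractionRing A) (s ^ N) * z)) :
    IsIntegral A z := by
  classical
  haveI := NormRed18.isArtinianRing_fractionRing A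
  haveI : Fintype (MaximalSpectrum (FractionRing A)) := Fintype.ofFinite _
  have key : ∀ P : MaximalSpectrum (FractionRing A), IsIntegral A (Ideal.Quotient.mk P.asIdeal z) := by
    intro P
    let D := A ⧸ NormRed18.factorPrime A P
    haveI : IsLocalRing D := IsLocalRing.of_surjective' (Ideal.Quotient.mk _) Ideal.Quotient.mk_surjective
    haveI := NormRed18.isFractionRing_factor A P
    refine (NormRed18.mem_integralClosure_factor A P).2
      (isIntegral_of_pow_mul (D := D) (fun n hn => ?_) _ fun s hs => ?_)
    · let π : integralClosure A (FractionRing A) →+* integralClosure D (FractionRing A ⧸ P.asIdeal) :=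
        ((Ideal.Quotient.mk P.asIdeal).comp (integralClosure A (FractionRing A)).val.toRingHom).codRestrict _
          fun x => IsIntegral.tower_top (A := D) (x.2.map (Ideal.Quotient.mkₐ A P.asIdeal))
      refine two_le_height_factor A P h2 _ π (fun c => ?_) (fun x hx => congrArg Subtype.val hx)
        (fun x hx => Subtype.ext hx) n
      obtain ⟨x, hx⟩ := NormRed18.proj_surjective A P
        ⟨c.1, (NormRed18.mem_integralClosure_factor A P).2 c.2⟩
      exact ⟨x, Subtype.ext (congrArg Subtype.val hx :)⟩
    · obtain ⟨s, rfl⟩ := Ideal.Quotient.mk_surjective s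
      have hs' : s ∈ maximalIdeal A := fun h => hs (h.map _)
      obtain ⟨N, hN⟩ := hz s hs'
      exact ⟨N, IsIntegral.tower_top (A := D) (hN.map (Ideal.Quotient.mkₐ A P.asIdeal))⟩
  choose p hp hpz using key
  refine ⟨∏ P, p P, Polynomial.monic_prod_of_monic _ _ fun P _ => hp P, NormRed18.eq_of_mk_eq A fun P => ?_⟩
  rw [← Polynomial.aeval_def, map_zero]
  show Ideal.Quotient.mkₐ A P.asIdeal _ = 0
  rw [← Polynomial.aeval_algHom_apply, map_prod]
  exact Finset.prod_eq_zero (Finset.mem_univ P) (hpz P)

end Groth.Agent.PunctIC6
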