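import Groth.Agent.Lib.PunctIC6.Basic
import Mathlib.AlgebraicGeometry.AffineScheme

/-!
# Sections over the punctured spectrum
-/

set_option autoImplicit false
set_option linter.style.haveILetI false
set_option backward.isDefEq.respectTransparency.types false
universe u

open IsLocalRing AlgebraicGeometry CategoryTheory Opposite

namespace Groth.Agent.PunctIC6

variable (A : Type u) [CommRing A] [IsNoetherianRing A] [IsReduced A] [IsLocalRing A]

theorem exists_regular_mem
    (h2 : ∀ (m : Ideal (integralClosure A (FractionRing A))) [m.IsMaximal], 2 ≤ m.height) :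
    ∃ s ∈ maximalIdeal A, s ∈ nonZeroDivisors A := by
  have hnot : maximalIdeal A ∉ minimalPrimes A := by
    intro hmin
    haveI : Nontrivial (integralClosure A (FractionRing A)) := inferInstance
    obtain ⟨m, hm⟩ := Ideal.exists_maximal (integralClosure A (FractionRing A))
    let M : PrimeSpectrum (integralClosure A (FractionRing A)) := ⟨m, hm.isPrime⟩
    have h := h2 m
    rw [show m = M.asIdeal from rfl, PrimeSpectrum.height_eq_orderHeight M] at h
    have h' := h.trans (Order.height_le_height_apply_of_strictMono _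
      (VarDim.strictMono_comap_of_isIntegral (R := A)) M)
    have hcl : Order.height (PrimeSpectrum.comap (algebraMap A (integralClosure A (FractionRing A))) M) = 0 := by
      refine Order.height_eq_zero.2 fun q hq => ?_
      show _ ≤ q.asIdeal
      refine le_trans ?_ (hmin.2 ⟨q.2, bot_le⟩ (IsLocalRing.le_maximalIdeal q.2.ne_top))
      exact IsLocalRing.le_maximalIdeal (Ideal.IsPrime.ne_top inferInstance)
    rw [hcl] at h'
    exact absurd h' (by norm_num)
  have hsub : ¬ ((maximalIdeal A : Set A) ⊆ ⋃ p ∈ minimalPrimes A, (p : Set A)) := fun hsub => by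
    obtain ⟨p, hp, hle⟩ := (Ideal.subset_union_prime_finite (minimalPrimes.finite_of_isNoetherianRing A) ⊥ ⊥
      (fun p hp _ _ => hp.1.1)).1 hsub
    exact hnot (((IsLocalRing.maximalIdeal.isMaximal A).eq_of_le hp.1.1.ne_top hle).symm ▸ hp)
  obtain ⟨s, hs, hs'⟩ := Set.not_subset.1 hsub
  refine ⟨s, hs, mem_nonZeroDivisors_iff_right.2 fun x hx => ?_⟩
  have : ∀ p ∈ minimalPrimes A, x ∈ p := fun p hp =>
    (hp.1.1.mem_or_mem (show x * s ∈ p by rw [hx]; exact zero_mem _)).resolve_right fun h => hs' (Set.mem_biUnion hp h)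
  have hnil : x ∈ nilradical A := by
    rw [nilradical, Ideal.zero_eq_bot, ← Ideal.sInf_minimalPrimes, Ideal.mem_sInf]
    exact fun {p} hp => this p hp
  rwa [nilradical_eq_zero] at hnil

theorem map_algebraMap (R : CommRingCat.{u}) (V W : (Spec R).Opens) (h : W ≤ V) (a : R) :
    ((Spec R).presheaf.map (homOfLE h).op).hom (algebraMap R Γ(Spec R, V) a) = algebraMap R Γ(Spec R, W) a := by
  rw [IsAffineOpen.algebraMap_Spec_obj, IsAffineOpen.algebraMap_Spec_obj]
  show ((Scheme.ΓSpecIso R).inv ≫ (Spec R).presheaf.map (homOfLE le_top).op ≫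
    (Spec R).presheaf.map (homOfLE h).op).hom a = _
  rw [← Functor.map_comp]
  rfl

theorem exists_hom (R : CommRingCat.{u}) [IsNoetherianRing R] [_root_.IsReduced R] [IsLocalRing R] (U : (Spec R).Opens)
    (hU : ∀ s ∈ maximalIdeal R, PrimeSpectrum.basicOpen s ≤ U)
    (hcov : U ≤ ⨆ s : maximalIdeal R, PrimeSpectrum.basicOpen (s : R))
    (h2 : ∀ (m : Ideal (integralClosure R (FractionRing R))) [m.IsMaximal], 2 ≤ m.height) :
    ∃ φ : Γ(Spec R, U) →+* integralClosure R (FractionRing R), Function.Injective φ ∧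
      φ.comp (algebraMap R Γ(Spec R, U)) = algebraMap R (integralClosure R (FractionRing R)) := by
  classical
  let X := Spec R
  let K := FractionRing R
  obtain ⟨s, hs, hsr⟩ := exists_regular_mem R h2
  let res : ∀ t : R, t ∈ maximalIdeal R → Γ(X, U) →+* Γ(X, (PrimeSpectrum.basicOpen t : X.Opens)) := fun t ht =>
    (X.presheaf.map (homOfLE (hU t ht)).op).hom
  have hres : ∀ t (ht : t ∈ maximalIdeal R) (a : R), res t ht (algebraMap R Γ(X, U) a) = algebraMap R _ a :=
    fun t ht a => map_algebraMap R U _ (hU t ht) a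
  let χ : Γ(X, (PrimeSpectrum.basicOpen s : X.Opens)) →+* K :=
    IsLocalization.Away.lift (S := Γ(X, (PrimeSpectrum.basicOpen s : X.Opens))) (s : R) (g := (algebraMap R K))
      (IsLocalization.map_units K ⟨s, hsr⟩)
  have hχ : ∀ a : R, χ (algebraMap R _ a) = algebraMap R K a := fun a =>
    IsLocalization.Away.lift_eq (s : R) _ a
  let ψ : Γ(X, U) →+* K := χ.comp (res s hs)
  have hψ : ∀ a : R, ψ (algebraMap R _ a) = algebraMap R K a := fun a => by
    show χ (res s hs _) = _
    rw [hres s hs, hχ]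
  -- comparison on the opens `D(t)`
  have key : ∀ t (ht : t ∈ maximalIdeal R) (x : Γ(X, U)), ∃ (N : ℕ) (a : R),
      algebraMap R K (t ^ N) * ψ x = algebraMap R K a ∧ (a = 0 → res t ht x = 0) := by
    intro t ht x
    obtain ⟨N, a, hN⟩ := IsLocalization.Away.surj (S := Γ(X, (PrimeSpectrum.basicOpen t : X.Opens))) (t : R) (res t ht x)
    obtain ⟨M, b, hM⟩ := IsLocalization.Away.surj (S := Γ(X, (PrimeSpectrum.basicOpen s : X.Opens))) (s : R) (res s hs x)
    let W : X.Opens := PrimeSpectrum.basicOpen (t * s)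
    have hst : W ≤ (PrimeSpectrum.basicOpen t : X.Opens) := PrimeSpectrum.basicOpen_mul_le_left t s
    have hst' : W ≤ (PrimeSpectrum.basicOpen s : X.Opens) := PrimeSpectrum.basicOpen_mul_le_right t s
    let r := algebraMap R Γ(X, W)
    let rt : Γ(X, (PrimeSpectrum.basicOpen t : X.Opens)) →+* Γ(X, W) := (X.presheaf.map (homOfLE hst).op).hom
    let rs : Γ(X, (PrimeSpectrum.basicOpen s : X.Opens)) →+* Γ(X, W) := (X.presheaf.map (homOfLE hst').op).hom
    have hrt : ∀ c : R, rt (algebraMap R _ c) = r c := fun c => map_algebraMap R _ W hst c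
    have hrs : ∀ c : R, rs (algebraMap R _ c) = r c := fun c => map_algebraMap R _ W hst' c
    have hxx : rt (res t ht x) = rs (res s hs x) := by
      show (X.presheaf.map (homOfLE (hU t ht)).op ≫ X.presheaf.map (homOfLE hst).op).hom x =
        (X.presheaf.map (homOfLE (hU s hs)).op ≫ X.presheaf.map (homOfLE hst').op).hom x
      rw [← Functor.map_comp, ← Functor.map_comp]
      rfl
    have e1 := congrArg rt hN
    have e2 := congrArg rs hM
    rw [map_mul, map_pow, hrt, hrt, hxx] at e1
    rw [map_mul, map_pow, hrs, hrs] at e2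
    have e3 : r (a * s ^ M) = r (b * t ^ N) := by
      rw [map_mul, map_mul, map_pow, map_pow, ← e1, ← e2]; ring
    obtain ⟨⟨_, L, rfl⟩, hL⟩ := (IsLocalization.eq_iff_exists (Submonoid.powers (t * s : R))
      Γ(X, (PrimeSpectrum.basicOpen (t * s) : X.Opens))).1 e3
    simp only [mul_pow] at hL
    refine ⟨L + N, t ^ L * a, ?_, fun ha => ?_⟩
    · have hsu : IsUnit (algebraMap R K (s ^ L * s ^ M)) :=
        IsLocalization.map_units K ⟨_, mul_mem (pow_mem hsr L) (pow_mem hsr M)⟩
      refine hsu.mul_left_cancel ?_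
      have h3 := congrArg χ hM
      rw [map_mul, map_pow, hχ, hχ] at h3
      have h4 := congrArg (algebraMap R K) (hL : t ^ L * s ^ L * (a * s ^ M) = t ^ L * s ^ L * (b * t ^ N))
      simp only [map_mul, map_pow] at h4 ⊢
      rw [← h3] at h4
      show _ * (_ * χ (res s hs x)) = _
      linear_combination -h4
    · have hu : IsUnit (algebraMap R Γ(X, (PrimeSpectrum.basicOpen t : X.Opens)) t) :=
        IsLocalization.Away.algebraMap_isUnit (t : R)
      refine ((hu.pow L).mul (hu.pow N)).mul_right_eq_zero.1 ?_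
      rw [mul_assoc, mul_comm _ (res t ht x), hN, ← map_pow, ← map_mul]
      exact (congrArg _ ha).trans (map_zero _)
  have hint : ∀ x, IsIntegral R (ψ x) := fun x => by
    refine isIntegral_of_pow_mul_reduced R h2 _ fun t ht => ?_
    obtain ⟨N, a, h, -⟩ := key t ht x
    exact ⟨N, h ▸ isIntegral_algebraMap⟩
  refine ⟨ψ.codRestrict (integralClosure R K) hint, ?_, RingHom.ext fun a => Subtype.ext (hψ a)⟩
  refine (injective_iff_map_eq_zero _).2 fun x hx => ?_
  have hx' : ψ x = 0 := congrArg Subtype.val hx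
  refine X.sheaf.eq_of_locally_eq' (fun t : maximalIdeal R => (PrimeSpectrum.basicOpen (t : R) : X.Opens)) U
    (fun t => homOfLE (hU t.1 t.2)) hcov x 0 fun t => ?_
  rw [map_zero]
  obtain ⟨N, a, h, h0⟩ := key t.1 t.2 x
  refine h0 (IsFractionRing.injective R K ?_)
  rw [← h, hx', mul_zero, map_zero]

end Groth.Agent.PunctIC6
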